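import Groth.Agent.FlatMorLib.Stalk

/-!
# A morphism of ringed spaces with flat stalk maps has exact module pullback
-/

set_option autoImplicit false

universe u

open CategoryTheory CategoryTheory.Limits TopologicalSpace Opposite

namespace FlatMorLib

variable {X Y : TopCat.{u}} (f : X ⟶ Y) (O_X : TopCat.Sheaf CommRingCat.{u} X)
  (O_Y : TopCat.Sheaf CommRingCat.{u} Y)
  (c : O_Y ⟶ ((TopologicalSpace.Opens.map f).sheafPushforwardContinuous CommRingCat.{u}
    (Opens.grothendieckTopology Y) (Opens.grothendieckTopology X)).obj O_X)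

/-- The map of stalks. -/
noncomputable def stalkHom (x : X) : O_Y.presheaf.stalk (f x) ⟶ O_X.presheaf.stalk x :=
  (TopCat.Presheaf.stalkFunctor CommRingCat.{u} (f x)).map
      (show O_Y.presheaf ⟶ (TopCat.Presheaf.pushforward CommRingCat.{u} f).obj O_X.presheaf from c.hom) ≫
    TopCat.Presheaf.stalkPushforward CommRingCat.{u} f O_X.presheaf x

theorem stalkHom_germ (x : X) (U : Opens Y) (hx : f x ∈ U) (r : O_Y.presheaf.obj (op U)) :
    stalkHom f O_X O_Y c x (O_Y.presheaf.germ U (f x) hx r) =
      O_X.presheaf.germ ((Opens.map f).obj U) x hx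
        (show O_X.presheaf.obj (op ((Opens.map f).obj U)) from c.hom.app (op U) r) := by
  change TopCat.Presheaf.stalkPushforward CommRingCat.{u} f O_X.presheaf x
    ((TopCat.Presheaf.stalkFunctor CommRingCat.{u} (f x)).map
      (show O_Y.presheaf ⟶ (TopCat.Presheaf.pushforward CommRingCat.{u} f).obj O_X.presheaf from c.hom) _) = _
  exact (congrArg (TopCat.Presheaf.stalkPushforward CommRingCat.{u} f O_X.presheaf x)
    (TopCat.Presheaf.stalkFunctor_map_germ_apply U (f x) hx _ r)).trans
      (TopCat.Presheaf.stalkPushforward_germ_apply ..)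

/-- The morphism of ringed sites. -/
noncomputable abbrev rmor : ModSite.RMor O_X O_Y := ModSite.RMor.ofFlat (TopologicalSpace.Opens.map f) c

/-- `f_*` of a skyscraper is a skyscraper. -/
noncomputable def pushSkyHom (x : X) (A : ModuleCat.{u} (O_X.presheaf.stalk x)) :
    (rmor f O_X O_Y c).push.obj (skyObj O_X x A) ⟶
      skyObj O_Y (f x) ((ModuleCat.restrictScalars (stalkHom f O_X O_Y c x).hom).obj A) :=
  ⟨PresheafOfModules.homMk (M₁ := ((rmor f O_X O_Y c).push.obj (skyObj O_X x A)).val)
    (M₂ := (skyObj O_Y (f x) ((ModuleCat.restrictScalars (stalkHom f O_X O_Y c x).hom).obj A)).val)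
    { app := fun U => AddCommGrpCat.ofHom
        { toFun := fun g => g
          map_zero' := rfl
          map_add' := fun _ _ => rfl }
      naturality := fun _ _ _ => rfl }
    (fun U r g => funext fun ⟨h⟩ => by
      exact congrArg (fun t : O_X.presheaf.stalk x =>
          t • skyVal O_X x (A := A) (U := (Opens.map f).obj U.unop) h g)
        (stalkHom_germ f O_X O_Y c x U.unop h r).symm)⟩

/-- The inverse of `pushSkyHom`. -/
noncomputable def pushSkyInv (x : X) (A : ModuleCat.{u} (O_X.presheaf.stalk x)) :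
    skyObj O_Y (f x) ((ModuleCat.restrictScalars (stalkHom f O_X O_Y c x).hom).obj A) ⟶
      (rmor f O_X O_Y c).push.obj (skyObj O_X x A) :=
  ⟨PresheafOfModules.homMk
    (M₁ := (skyObj O_Y (f x) ((ModuleCat.restrictScalars (stalkHom f O_X O_Y c x).hom).obj A)).val)
    (M₂ := ((rmor f O_X O_Y c).push.obj (skyObj O_X x A)).val)
    { app := fun U => AddCommGrpCat.ofHom
        { toFun := fun g => g
          map_zero' := rfl
          map_add' := fun _ _ => rfl }
      naturality := fun _ _ _ => rfl }
    (fun U r g => funext fun ⟨h⟩ => by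
      exact congrArg (fun t : O_X.presheaf.stalk x =>
          t • skyVal O_X x (A := A) (U := (Opens.map f).obj U.unop) h g)
        (stalkHom_germ f O_X O_Y c x U.unop h r))⟩

/-- `f_* ∘ sky_x ≅ sky_{f x} ∘ restriction of scalars`. -/
noncomputable def pushSkyIso (x : X) : skyMod O_X x ⋙ (rmor f O_X O_Y c).push ≅
    ModuleCat.restrictScalars (stalkHom f O_X O_Y c x).hom ⋙ skyMod O_Y (f x) :=
  NatIso.ofComponents
    (fun A =>
      { hom := pushSkyHom f O_X O_Y c x A
        inv := pushSkyInv f O_X O_Y c x A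
        hom_inv_id := SheafOfModules.hom_ext (PresheafOfModules.hom_ext fun _ => rfl)
        inv_hom_id := SheafOfModules.hom_ext (PresheafOfModules.hom_ext fun _ => rfl) })
    fun {A B} g => by
      apply SheafOfModules.hom_ext
      apply PresheafOfModules.hom_ext
      intro U
      ext s
      refine skyObj_ext O_Y (f x) _ _ _ fun hx => ?_
      exact (skyMod_map_app O_X x g (U := (Opens.map f).obj U.unop) hx s).trans
        (skyMod_map_app O_Y (f x) ((ModuleCat.restrictScalars (stalkHom f O_X O_Y c x).hom).map g) hx _).symm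

/-- `(f^* M)_x ≅ O_{X,x} ⊗ M_{f x}`. -/
noncomputable def stalkPullIso (x : X) :
    (rmor f O_X O_Y c).pull ⋙ stalk O_X x ≅
      stalk O_Y (f x) ⋙ ModuleCat.extendScalars.{u, u, u} (stalkHom f O_X O_Y c x).hom :=
  ((conjugateIsoEquiv
    ((rmor f O_X O_Y c).adj.comp (skyAdj O_X x))
    ((skyAdj O_Y (f x)).comp (ModuleCat.extendRestrictScalarsAdj (stalkHom f O_X O_Y c x).hom))).symm
      (pushSkyIso f O_X O_Y c x)).symm

theorem isFlat_ofFlat (hflat : ∀ x : X, (stalkHom f O_X O_Y c x).hom.Flat) :
    ModSite.RMor.IsFlat (rmor f O_X O_Y c) := by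
  refine ⟨fun J _ _ => ⟨fun {K} => ⟨fun {c'} hc => ?_⟩⟩⟩
  let L := (rmor f O_X O_Y c).pull
  have hi : IsIso ((limit.isLimit (K ⋙ L)).lift (L.mapCone c')) := by
    refine isIso_of_stalks O_X _ fun x => ?_
    have := ModuleCat.preservesFiniteLimits_extendScalars_of_flat.{u} (hflat x)
    have : PreservesFiniteLimits (L ⋙ stalk O_X x) :=
      preservesFiniteLimits_of_natIso (stalkPullIso f O_X O_Y c x).symm
    have h1 := isLimitOfPreserves (L ⋙ stalk O_X x) hc
    have h2 := isLimitOfPreserves (stalk O_X x) (limit.isLimit (K ⋙ L))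
    have e : (stalk O_X x).map ((limit.isLimit (K ⋙ L)).lift (L.mapCone c')) =
        h2.lift ((L ⋙ stalk O_X x).mapCone c') := by
      refine h2.hom_ext fun j => ?_
      rw [h2.fac]
      exact ((stalk O_X x).map_comp _ _).symm.trans
        (congrArg (stalk O_X x).map ((limit.isLimit (K ⋙ L)).fac (L.mapCone c') j))
    rw [e]
    exact ⟨⟨h1.lift ((stalk O_X x).mapCone (limit.cone (K ⋙ L))),
      h1.hom_ext fun j => by
        rw [Category.id_comp, Category.assoc, h1.fac]
        exact h2.fac _ j,
      h2.hom_ext fun j => by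
        rw [Category.id_comp, Category.assoc, h2.fac]
        exact h1.fac _ j⟩⟩
  exact ⟨IsLimit.ofPointIso (limit.isLimit (K ⋙ L)) (i := hi)⟩

end FlatMorLib
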