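import Groth.Prelude.Def_ModSite
import Groth.Prelude.Def_ModSite2
import Mathlib.Algebra.Category.ModuleCat.Stalk
import Mathlib.Algebra.Category.ModuleCat.ChangeOfRings
import Mathlib.Algebra.Category.ModuleCat.Descent
import Mathlib.Algebra.Category.ModuleCat.Sheaf.Abelian
import Mathlib.Topology.Sheaves.Abelian
import Mathlib.Topology.Sheaves.SheafCondition.UniqueGluing
import Mathlib.CategoryTheory.Adjunction.Mates
import Mathlib.RingTheory.RingHom.Flat

/-!
# Stalks and skyscrapers of modules on ringed spaces, and exactness of flat pullbacks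
-/

set_option autoImplicit false

universe u

open CategoryTheory CategoryTheory.Limits TopologicalSpace Opposite

namespace FlatMorLib

variable {X : TopCat.{u}} (O : TopCat.Sheaf CommRingCat.{u} X) (x : X)

/-- The underlying presheaf of modules, typed over the presheaf of commutative rings. -/
abbrev valC (M : ModSite.Mod O) :
    PresheafOfModules.{u} (O.presheaf ⋙ forget₂ CommRingCat.{u} RingCat.{u}) := M.val

/-- The underlying presheaf of abelian groups. -/
noncomputable abbrev prs (M : ModSite.Mod O) : TopCat.Presheaf AddCommGrpCat.{u} X :=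
  (valC O M).presheaf

/-- The map on stalks. -/
noncomputable def stalkMapAb {M N : ModSite.Mod O} (φ : M ⟶ N) : (prs O M).stalk x ⟶ (prs O N).stalk x :=
  (TopCat.Presheaf.stalkFunctor AddCommGrpCat.{u} x).map
    ((PresheafOfModules.toPresheaf _).map φ.val : prs O M ⟶ prs O N)

theorem stalkMapAb_germ {M N : ModSite.Mod O} (φ : M ⟶ N) {U : Opens X} (hx : x ∈ U)
    (s : (prs O M).obj (op U)) :
    stalkMapAb O x φ ((prs O M).germ U x hx s) = (prs O N).germ U x hx (φ.val.app (op U) s) :=
  TopCat.Presheaf.stalkFunctor_map_germ_apply U x hx _ s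

theorem stalkMap_smul {M N : ModSite.Mod O} (φ : M ⟶ N) (r : O.presheaf.stalk x)
    (m : (prs O M).stalk x) :
    stalkMapAb O x φ (r • m) = r • stalkMapAb O x φ m := by
  obtain ⟨U, hU, a, rfl⟩ := O.presheaf.exists_germ_eq (x := x) r
  obtain ⟨V, hV, s, rfl⟩ := (prs O M).exists_germ_eq (x := x) m
  have hW : x ∈ U ⊓ V := ⟨hU, hV⟩
  rw [← TopCat.Presheaf.germ_res_apply O.presheaf (homOfLE (inf_le_left : U ⊓ V ≤ U)) x hW a,
    ← TopCat.Presheaf.germ_res_apply (prs O M) (homOfLE (inf_le_right : U ⊓ V ≤ V)) x hW s,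
    ← PresheafOfModules.germ_smul (R := O.presheaf) (valC O M) x (U ⊓ V) hW _ _,
    stalkMapAb_germ, stalkMapAb_germ]
  refine (congrArg _ ?_).trans (PresheafOfModules.germ_smul (R := O.presheaf) (valC O N) x (U ⊓ V) hW _ _)
  exact map_smul (φ.val.app (op (U ⊓ V))).hom _ _

/-- The stalk functor on sheaves of modules. -/
noncomputable def stalk : ModSite.Mod O ⥤ ModuleCat.{u} (O.presheaf.stalk x) where
  obj M := ModuleCat.of (O.presheaf.stalk x) ((prs O M).stalk x)
  map {M N} φ := ModuleCat.ofHom
    { toFun := stalkMapAb O x φ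
      map_add' := map_add (stalkMapAb O x φ).hom
      map_smul' := stalkMap_smul O x φ }
  map_id M := by
    ext m
    obtain ⟨U, hU, s, rfl⟩ := (prs O M).exists_germ_eq (x := x) m
    exact TopCat.Presheaf.stalkFunctor_map_germ_apply U x hU _ s
  map_comp {M N P} φ ψ := by
    ext m
    obtain ⟨U, hU, s, rfl⟩ := (prs O M).exists_germ_eq (x := x) m
    refine (stalkMapAb_germ O x (φ ≫ ψ) hU s).trans ?_
    exact ((congrArg (stalkMapAb O x ψ) (stalkMapAb_germ O x φ hU s)).trans
      (stalkMapAb_germ O x ψ hU _)).symm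

theorem stalk_germ {M N : ModSite.Mod O} (φ : M ⟶ N) {U : Opens X} (hx : x ∈ U)
    (s : (prs O M).obj (op U)) :
    ((stalk O x).map φ).hom ((prs O M).germ U x hx s) = (prs O N).germ U x hx (φ.val.app (op U) s) :=
  TopCat.Presheaf.stalkFunctor_map_germ_apply U x hx _ s

/-- Sheaves of modules to abelian sheaves on the space. -/
noncomputable abbrev toAbT : ModSite.Mod O ⥤ TopCat.Sheaf AddCommGrpCat.{u} X :=
  SheafOfModules.toSheaf.{u} (ModSite.ringSh O)

noncomputable def stalkForgetIso :
    stalk O x ⋙ forget₂ _ AddCommGrpCat.{u} ≅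
      toAbT O ⋙ TopCat.Sheaf.forget AddCommGrpCat.{u} X ⋙ TopCat.Presheaf.stalkFunctor AddCommGrpCat.{u} x :=
  NatIso.ofComponents (fun _ => Iso.refl _) (fun _ => (Category.comp_id _).trans (Category.id_comp _).symm)

instance preservesFiniteLimits_stalk : PreservesFiniteLimits (stalk O x) := by
  have : PreservesFiniteLimits (stalk O x ⋙ forget₂ _ AddCommGrpCat.{u}) :=
    haveI : PreservesFiniteLimits (toAbT O) :=
      inferInstanceAs (PreservesFiniteLimits (SheafOfModules.toSheaf.{u} (ModSite.ringSh O)))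
    preservesFiniteLimits_of_natIso (stalkForgetIso O x).symm
  exact preservesFiniteLimits_of_reflects_of_preserves _ (forget₂ _ AddCommGrpCat.{u})

theorem isIso_of_stalks {M N : ModSite.Mod O} (φ : M ⟶ N) (h : ∀ x, IsIso ((stalk O x).map φ)) :
    IsIso φ := by
  have : ∀ y, IsIso ((TopCat.Presheaf.stalkFunctor AddCommGrpCat.{u} y).map
      ((toAbT O).map φ).hom) := fun y => by
    have := h y
    exact inferInstanceAs (IsIso ((forget₂ _ AddCommGrpCat.{u}).map ((stalk O y).map φ)))
  have : IsIso ((toAbT O).map φ) := TopCat.Presheaf.isIso_of_stalkFunctor_map_iso _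
  have h1 : IsIso ((TopCat.Sheaf.forget AddCommGrpCat.{u} X).map ((toAbT O).map φ)) := inferInstance
  have : IsIso ((SheafOfModules.forget _ ⋙ PresheafOfModules.toPresheaf _).map φ) := h1
  exact isIso_of_reflects_iso φ (SheafOfModules.forget _ ⋙ PresheafOfModules.toPresheaf _)

section Sky

variable (A : ModuleCat.{u} (O.presheaf.stalk x))

/-- Sections of the skyscraper. -/
abbrev SkySec (U : Opens X) : Type u := PLift (x ∈ U) → A

noncomputable instance skySMul (U : (Opens X)ᵒᵖ) :
    SMul ((O.presheaf ⋙ forget₂ CommRingCat.{u} RingCat.{u}).obj U) (SkySec O x A U.unop) :=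
  ⟨fun r f h => (O.presheaf.germ U.unop x h.down r) • f h⟩

theorem skySMul_def (U : (Opens X)ᵒᵖ) (r : O.presheaf.obj U) (f : SkySec O x A U.unop)
    (h : PLift (x ∈ U.unop)) :
    ((show (O.presheaf ⋙ forget₂ CommRingCat.{u} RingCat.{u}).obj U from r) • f) h =
      (O.presheaf.germ U.unop x h.down r) • f h := rfl

noncomputable instance skyModule (U : (Opens X)ᵒᵖ) :
    Module ((O.presheaf ⋙ forget₂ CommRingCat.{u} RingCat.{u}).obj U) (SkySec O x A U.unop) where
  one_smul f := funext fun h =>
    (congrArg (· • f h) (map_one (O.presheaf.germ U.unop x h.down).hom)).trans (one_smul _ _)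
  mul_smul r s f := funext fun h =>
    (congrArg (· • f h) (map_mul (O.presheaf.germ U.unop x h.down).hom r s)).trans (mul_smul _ _ _)
  smul_zero r := funext fun h => smul_zero (O.presheaf.germ U.unop x h.down r)
  smul_add r f g := funext fun h => smul_add (O.presheaf.germ U.unop x h.down r) (f h) (g h)
  add_smul r s f := funext fun h =>
    (congrArg (· • f h) (map_add (O.presheaf.germ U.unop x h.down).hom r s)).trans (add_smul _ _ _)
  zero_smul f := funext fun h =>
    (congrArg (· • f h) (map_zero (O.presheaf.germ U.unop x h.down).hom)).trans (zero_smul _ _)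

/-- The underlying presheaf of abelian groups. -/
noncomputable def skyAb : TopCat.Presheaf AddCommGrpCat.{u} X where
  obj U := AddCommGrpCat.of (SkySec O x A U.unop)
  map {U V} i := AddCommGrpCat.ofHom
    { toFun := fun (f : SkySec O x A U.unop) h => f ⟨i.unop.le h.down⟩
      map_zero' := rfl
      map_add' := fun _ _ => rfl }

noncomputable instance skyAbModule (U : (Opens X)ᵒᵖ) :
    Module ((O.presheaf ⋙ forget₂ CommRingCat.{u} RingCat.{u}).obj U) ((skyAb O x A).obj U) :=
  skyModule O x A U

theorem skyAb_map_smul {U V : (Opens X)ᵒᵖ} (i : U ⟶ V)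
    (r : (O.presheaf ⋙ forget₂ CommRingCat.{u} RingCat.{u}).obj U) (f : (skyAb O x A).obj U) :
    (skyAb O x A).map i (r • f) =
      (O.presheaf ⋙ forget₂ CommRingCat.{u} RingCat.{u}).map i r • (skyAb O x A).map i f := by
  funext h
  exact congrArg (· • (show SkySec O x A U.unop from f) ⟨i.unop.le h.down⟩)
    (TopCat.Presheaf.germ_res_apply O.presheaf i.unop x h.down r).symm

theorem skyAb_isSheaf : TopCat.Presheaf.IsSheaf (skyAb O x A) := by
  classical
  rw [TopCat.Presheaf.isSheaf_iff_isSheafUniqueGluing]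
  intro ι U sf hsf
  let g : SkySec O x A (iSup U) := fun h =>
    (show SkySec O x A (U (Opens.mem_iSup.mp h.down).choose) from sf _)
      ⟨(Opens.mem_iSup.mp h.down).choose_spec⟩
  refine ⟨g, fun i => ?_, fun s hs => ?_⟩
  · funext ⟨h⟩
    have hI : x ∈ iSup U := Opens.mem_iSup.mpr ⟨i, h⟩
    exact congr_fun (hsf (Opens.mem_iSup.mp hI).choose i)
      ⟨⟨(Opens.mem_iSup.mp hI).choose_spec, h⟩⟩
  · funext h
    exact congr_fun (hs (Opens.mem_iSup.mp h.down).choose) ⟨(Opens.mem_iSup.mp h.down).choose_spec⟩

/-- The skyscraper module. -/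
noncomputable def skyObj : ModSite.Mod O :=
  { val := PresheafOfModules.ofPresheaf (R := O.presheaf ⋙ forget₂ CommRingCat.{u} RingCat.{u})
      (skyAb O x A) (fun _ _ i r f => skyAb_map_smul O x A i r f)
    isSheaf := skyAb_isSheaf O x A }

theorem skyObj_ext {U : Opens X} (f g : (prs O (skyObj O x A)).obj (op U))
    (h : ∀ h : x ∈ U, (show SkySec O x A U from f) ⟨h⟩ = (show SkySec O x A U from g) ⟨h⟩) : f = g :=
  funext fun (h' : PLift (x ∈ U)) => h h'.down

variable {A}

/-- The value of a section at the point. -/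
noncomputable def skyVal {U : Opens X} (hx : x ∈ U) : (prs O (skyObj O x A)).obj (op U) →+ A where
  toFun f := (show SkySec O x A U from f) ⟨hx⟩
  map_zero' := rfl
  map_add' _ _ := rfl

variable (A)

/-- The map `(sky A)_x → A`. -/
noncomputable def skyCounitAb : (prs O (skyObj O x A)).stalk x ⟶ AddCommGrpCat.of A :=
  colimit.desc _
    { pt := AddCommGrpCat.of A
      ι :=
        { app := fun U => AddCommGrpCat.ofHom (skyVal O x U.unop.2)
          naturality := fun _ _ _ => rfl } }

theorem skyCounitAb_germ {U : Opens X} (hx : x ∈ U) (f : (prs O (skyObj O x A)).obj (op U)) :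
    skyCounitAb O x A ((prs O (skyObj O x A)).germ U x hx f) = skyVal O x hx f := by
  have h : (prs O (skyObj O x A)).germ U x hx ≫ skyCounitAb O x A =
      AddCommGrpCat.ofHom (skyVal O x hx) :=
    colimit.ι_desc (F := (OpenNhds.inclusion x).op ⋙ prs O (skyObj O x A)) _
      (op (⟨U, hx⟩ : OpenNhds x))
  exact congr($(h) f)

theorem skyCounitAb_smul (c : O.presheaf.stalk x) (m : (stalk O x).obj (skyObj O x A)) :
    skyCounitAb O x A (c • m) = c • (show A from skyCounitAb O x A m) := by
  obtain ⟨U, hU, r, rfl⟩ := O.presheaf.exists_germ_eq (x := x) c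
  obtain ⟨V, hV, f, rfl⟩ := (prs O (skyObj O x A)).exists_germ_eq (x := x) m
  have hW : x ∈ U ⊓ V := ⟨hU, hV⟩
  rw [← TopCat.Presheaf.germ_res_apply O.presheaf (homOfLE (inf_le_left : U ⊓ V ≤ U)) x hW r,
    ← TopCat.Presheaf.germ_res_apply (prs O (skyObj O x A))
      (homOfLE (inf_le_right : U ⊓ V ≤ V)) x hW f]
  refine (congrArg (skyCounitAb O x A)
    (PresheafOfModules.germ_smul (R := O.presheaf) (valC O (skyObj O x A)) x (U ⊓ V) hW _ _).symm).trans ?_
  refine (skyCounitAb_germ O x A hW _).trans ?_
  exact congrArg (fun t : A => (O.presheaf.germ (U ⊓ V) x hW _) • t) (skyCounitAb_germ O x A hW _).symm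

/-- The counit. -/
noncomputable def skyCounit : (stalk O x).obj (skyObj O x A) ⟶ A :=
  ModuleCat.ofHom
    { toFun := skyCounitAb O x A
      map_add' := map_add (skyCounitAb O x A).hom
      map_smul' := skyCounitAb_smul O x A }

theorem skyCounit_germ {U : Opens X} (hx : x ∈ U) (f : (prs O (skyObj O x A)).obj (op U)) :
    (skyCounit O x A).hom ((prs O (skyObj O x A)).germ U x hx f) = skyVal O x hx f :=
  skyCounitAb_germ O x A hx f

variable {A} {M : ModSite.Mod O}

/-- The transpose of a map out of a stalk. -/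
noncomputable def skyLift (a : (stalk O x).obj M ⟶ A) : M ⟶ skyObj O x A :=
  ⟨PresheafOfModules.homMk (M₁ := M.val) (M₂ := (skyObj O x A).val)
    { app := fun U => AddCommGrpCat.ofHom
        { toFun := fun m => (fun h => a.hom ((prs O M).germ U.unop x h.down m) : SkySec O x A U.unop)
          map_zero' := funext fun ⟨h⟩ =>
            (congrArg a.hom (map_zero ((prs O M).germ U.unop x h).hom)).trans (map_zero a.hom)
          map_add' := fun m m' => funext fun ⟨h⟩ =>
            (congrArg a.hom (map_add ((prs O M).germ U.unop x h).hom m m')).trans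
              (map_add a.hom _ _) }
      naturality := fun U V i => by
        ext m
        funext ⟨h⟩
        exact congrArg a.hom (TopCat.Presheaf.germ_res_apply (prs O M) i.unop x h m) }
    (fun U r m => funext fun ⟨h⟩ => by
      exact (congrArg a.hom
        (PresheafOfModules.germ_smul (R := O.presheaf) (valC O M) x U.unop h r m)).trans
          (map_smul a.hom _ _))⟩

theorem skyLift_counit (a : (stalk O x).obj M ⟶ A) :
    (stalk O x).map (skyLift O x a) ≫ skyCounit O x A = a := by
  ext m
  obtain ⟨U, hU, s, rfl⟩ := (prs O M).exists_germ_eq (x := x) m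
  exact ((congrArg (skyCounit O x A).hom
    (stalk_germ O x (skyLift O x a) hU s)).trans (skyCounit_germ O x A hU _))

theorem sky_hom_ext {φ ψ : M ⟶ skyObj O x A}
    (h : (stalk O x).map φ ≫ skyCounit O x A = (stalk O x).map ψ ≫ skyCounit O x A) : φ = ψ := by
  apply SheafOfModules.hom_ext
  apply PresheafOfModules.hom_ext
  intro U
  ext m
  refine skyObj_ext O x A _ _ fun hx => ?_
  have := congr($(h).hom ((prs O M).germ U.unop x hx m))
  exact ((skyCounit_germ O x A hx (φ.val.app U m)).symm.trans
    (congrArg (skyCounit O x A).hom (stalk_germ O x φ hx m)).symm).trans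
      (this.trans ((congrArg (skyCounit O x A).hom (stalk_germ O x ψ hx m)).trans
        (skyCounit_germ O x A hx (ψ.val.app U m))))

/-- `Hom(M_x, A) ≃ Hom(M, sky A)`. -/
noncomputable def skyHomEquiv (M : ModSite.Mod O) (A : ModuleCat.{u} (O.presheaf.stalk x)) :
    ((stalk O x).obj M ⟶ A) ≃ (M ⟶ skyObj O x A) where
  toFun := skyLift O x
  invFun φ := (stalk O x).map φ ≫ skyCounit O x A
  left_inv a := skyLift_counit O x a
  right_inv φ := sky_hom_ext O x (skyLift_counit O x _)

theorem skyHomEquiv_naturality {M M' : ModSite.Mod O} {A : ModuleCat.{u} (O.presheaf.stalk x)}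
    (f : M' ⟶ M) (g : (stalk O x).obj M ⟶ A) :
    skyHomEquiv O x M' A ((stalk O x).map f ≫ g) = f ≫ skyHomEquiv O x M A g :=
  sky_hom_ext O x (by
    rw [Functor.map_comp, Category.assoc]
    exact (skyLift_counit O x _).trans (congrArg (_ ≫ ·) (skyLift_counit O x g).symm))

/-- The skyscraper functor. -/
noncomputable def skyMod : ModuleCat.{u} (O.presheaf.stalk x) ⥤ ModSite.Mod O :=
  Adjunction.rightAdjointOfEquiv (F := stalk O x) (fun M A => skyHomEquiv O x M A)
    (fun _ _ _ f g => skyHomEquiv_naturality O x f g)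

/-- Stalks are left adjoint to skyscrapers. -/
noncomputable def skyAdj : stalk O x ⊣ skyMod O x :=
  Adjunction.adjunctionOfEquivRight (F := stalk O x)
    (fun M A => skyHomEquiv O x M A) (fun _ _ _ f g => skyHomEquiv_naturality O x f g)

theorem skyMod_map {A B : ModuleCat.{u} (O.presheaf.stalk x)} (g : A ⟶ B) :
    (skyMod O x).map g = skyLift O x (skyCounit O x A ≫ g) := by
  change skyLift O x ((skyHomEquiv O x (skyObj O x A) A).symm (𝟙 (skyObj O x A)) ≫ g) = _
  change skyLift O x (((stalk O x).map (𝟙 _) ≫ skyCounit O x A) ≫ g) = _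
  rw [CategoryTheory.Functor.map_id, Category.id_comp]

theorem skyMod_map_app {A B : ModuleCat.{u} (O.presheaf.stalk x)} (g : A ⟶ B) {U : Opens X}
    (hx : x ∈ U) (f : (prs O (skyObj O x A)).obj (op U)) :
    skyVal O x hx (((skyMod O x).map g).val.app (op U) f) = g.hom (skyVal O x hx f) := by
  rw [skyMod_map]
  exact congrArg g.hom (skyCounit_germ O x A hx f)

end Sky

end FlatMorLib
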